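import Cfsg.Agent.Lib.Invol.TriSolv.Cert.S6.All
import Cfsg.Agent.Lib.Invol.TriSolv.Cert.U4.All
import Cfsg.Agent.Lib.Invol.TriSolv.Cert.U5.All

/-!
Orders of the presented covers: at most `720`, `72 * 720` and `528 * 51840`.
-/

set_option autoImplicit false

namespace CfsgLib.Invol.TriSolv.Cert

open CfsgLib.Spor.TC

theorem card_presS : Nat.card (Pres 5 relsS) ≠ 0 ∧ Nat.card (Pres 5 relsS) ≤ 720 :=
  S6.cosetCert.card_le_bot

theorem card_presU4 : Nat.card (Pres 6 relsU4) ≠ 0 ∧ Nat.card (Pres 6 relsU4) ≤ 51840 :=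
  U4.cosetCert.card_le (rels' := relsS) rfl (by decide +kernel) card_presS

theorem card_presU5 : Nat.card (Pres 7 relsU5) ≠ 0 ∧ Nat.card (Pres 7 relsU5) ≤ 27371520 :=
  U5.cosetCert.card_le (rels' := relsU4) rfl (by decide +kernel) card_presU4

end CfsgLib.Invol.TriSolv.Cert
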