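import Cfsg.Agent.Lib.Spor.TC.Word

/-!
Relators of covers of `Sym(6)`, `PSU(4, 2)` and `PSU(5, 2)` generated by five, six and seven transvections.
-/

set_option autoImplicit false

namespace CfsgLib.Invol.TriSolv.Cert

open CfsgLib.Spor.TC

/-- Adjacent transpositions of six letters. -/
def relsS : List PowRel := [
  ([0, 1], 3),
  ([0, 2], 2),
  ([1, 2], 3),
  ([0, 3], 2),
  ([1, 3], 2),
  ([2, 3], 3),
  ([0, 4], 2),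
  ([1, 4], 2),
  ([2, 4], 2),
  ([3, 4], 3)]

/-- Six letters; the long relator says that a product of three-cycles fixes the sixth. -/
def relsU4 : List PowRel := [
  ([0, 1], 3),
  ([0, 2], 2),
  ([1, 2], 3),
  ([0, 3], 2),
  ([1, 3], 2),
  ([2, 3], 3),
  ([0, 4], 2),
  ([1, 4], 2),
  ([2, 4], 2),
  ([3, 4], 3),
  ([0, 5], 2),
  ([1, 5], 3),
  ([2, 5], 2),
  ([3, 5], 3),
  ([4, 5], 2),
  ([0, 1, 0, 0, 1, 2, 3, 2, 1, 0, 1, 2, 1, 1, 2, 3, 4, 3, 2, 1, 5, 1, 2, 3, 4, 3, 2, 1, 1, 2, 1, 0, 1, 2, 3, 2, 1, 0, 0, 1, 0, 5], 1)]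

/-- Seven letters; the long relator says that a commutator fixes the seventh. -/
def relsU5 : List PowRel := [
  ([0, 1], 3),
  ([0, 2], 2),
  ([1, 2], 3),
  ([0, 3], 2),
  ([1, 3], 2),
  ([2, 3], 3),
  ([0, 4], 2),
  ([1, 4], 2),
  ([2, 4], 2),
  ([3, 4], 3),
  ([0, 5], 2),
  ([1, 5], 3),
  ([2, 5], 2),
  ([3, 5], 3),
  ([4, 5], 2),
  ([0, 1, 0, 0, 1, 2, 3, 2, 1, 0, 1, 2, 1, 1, 2, 3, 4, 3, 2, 1, 5, 1, 2, 3, 4, 3, 2, 1, 1, 2, 1, 0, 1, 2, 3, 2, 1, 0, 0, 1, 0, 5], 1),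
  ([0, 6], 3),
  ([1, 6], 3),
  ([2, 6], 3),
  ([3, 6], 2),
  ([4, 6], 2),
  ([5, 6], 3),
  ([1, 0, 2, 1, 5, 0, 0, 1, 0, 5, 1, 2, 6, 2, 1, 5, 0, 1, 0, 0, 5, 1, 2, 0, 1, 6], 1)]

end CfsgLib.Invol.TriSolv.Cert
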